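import Cfsg.Agent.H39.HN.X4.Data

/-!
Steps of a derivation (generated data).
-/

set_option autoImplicit false
set_option maxRecDepth 100000
set_option linter.all false
set_option Elab.async false

namespace H39
namespace HN
namespace X4

open H93.CosetI

noncomputable section

def st0 : List Step := [(0,[],[]),(0,[],[]),(0,[],[]),(0,[],[]),(0,[],[]),(2,[0,2,4,6,8],[]),(0,[],[]),(0,[],[]),(0,[],[]),(0,[],[]),(3,[11,12,14,16,18],[]),(0,[],[]),(0,[],[]),(0,[],[]),(0,[],[]),(0,[],[]),(0,[],[]),(0,[],[]),(0,[],[]),(0,[],[]),(0,[],[]),(0,[],[]),(0,[],[]),(0,[],[]),(0,[],[]),(0,[],[]),(0,[],[]),(0,[],[]),(5,[0,2,4,22,24,26,28,30,32,34,36,38,40,42,44,46,48,50,52,54],[]),(0,[],[]),(0,[],[]),(0,[],[]),(0,[],[]),(0,[],[]),(0,[],[]),(0,[],[]),(0,[],[]),(0,[],[]),(0,[],[]),(0,[],[]),(0,[],[]),(0,[],[]),(0,[],[]),(0,[],[]),(0,[],[]),(0,[],[]),(0,[],[]),(7,[0,2,4,22,24,60,62,64,66,68,70,72,7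4,76,78,80,82,84,86,88,90,92],[21]),(0,[],[]),(0,[],[]),(0,[],[]),(0,[],[]),(0,[],[]),(0,[],[]),(0,[],[]),(3,[],[101,59,1,21,19]),(0,[],[]),(0,[],[]),(0,[],[]),(0,[],[]),(0,[],[]),(0,[],[]),(0,[],[]),(4,[6,98,112,114,116,118,120,122,124],[22,24]),(0,[],[]),(0,[],[]),(0,[],[]),(3,[7,22,128,130,132],[]),(0,[],[]),(0,[],[]),(0,[],[]),(0,[],[]),(0,[],[]),(0,[],[]),(0,[],[]),(0,[],[]),(0,[],[]),(0,[],[]),(0,[],[]),(0,[],[]),(0,[],[]),(0,[],[]),(0,[],[]),(0,[],[]),(0,[],[]),(5,[104,106,136,138,140,142,144,146,148,150,152,154,156,158,160,162,164,166,168],[14]),(0,[],[]),(0,[],[]),(0,[],[]),(0,[],[]),(0,[],[]),(0,[],[]),(0,[],[]),(4,[104,108,172,174,176,178,180,182,184],[14,16]),(2,[16,111,102],[171,169]),(3,[171],[15,13,9,135,133]),(1,[190],[]),(1,[193,169],[]),(1,[130,194],[]),(1,[197],[]),(1,[199,189],[]),(0,[],[]),(0,[],[]),(0,[],[]),(0,[],[]),(0,[],[]),(0,[],[]),(0,[],[]),(0,[],[])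,(0,[],[]),(0,[],[]),(0,[],[]),(0,[],[]),(0,[],[]),(0,[],[]),(0,[],[]),(5,[111,102,201,202,204,206,208,210,212,214,216,218,220,222,224,226,228,230],[18,95]),(0,[],[]),(0,[],[]),(0,[],[]),(0,[],[]),(0,[],[]),(0,[],[]),(0,[],[]),(0,[],[]),(0,[],[]),(0,[],[]),(0,[],[]),(0,[],[]),(0,[],[]),(0,[],[]),(0,[],[]),(0,[],[]),(7,[111,102,201,202,204,234,236,238,240,242,244,246,248,250,252,254,256,258,260,262,264],[187,185]),(3,[95],[19,187,185,267]),(3,[25,128,202,204,234],[127]),(1,[270],[]),(1,[273,235],[]),(3,[207,275,126,26],[208]),(0,[],[]),(0,[],[]),(3,[31,29,276,210,278],[]),(0,[],[]),(3,[213,278,282,32,284],[]),(3,[35,284,286,214,216],[]),(3,[219,288,36,38,280],[]),(3,[41,280,290,220],[42]),(0,[],[]),(0,[],[]),(0,[],[]),(0,[],[]),(3,[47,294,296,298,300],[]),(3,[225,223,292,44,294,296],[]),(1,[304],[]),(1,[307,298],[]),(1,[227,308],[]),(1,[311],[]),(1,[313,300],[]),(3,[229,314,302,48,50],[]),(3,[53,316,230,232,268,266],[]),(1,[318],[]),(1,[321,184],[]),(1,[55,322],[]),(1,[325],[]),(1,[327,186],[]),(1,[97,328],[]),(1,[330],[]),(1,[333,97],[])]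

theorem ok0 : data.stepsOK st0 0 = true := by decide +kernel

end

end X4
end HN
end H39
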